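import Cfsg.Agent.H604.OZ.Basic
import Cfsg.Agent.H672.OZ.Full
import Cfsg.Agent.S0142
import Cfsg.Agent.Characters.Values

/-!
# S4842: degrees which are powers of a prime (helper245)

* `zero_of_coprime` : `χ(1)` prime to the size of the class of `t ≠ 1` : `χ(t) = 0`;
* `dvd_cent` : `χ(1)` a power of the prime `r`: `|G|_r` divides `|C(x)|`.
-/

set_option autoImplicit false

open Cfsg Cfsg.Agent.Characters Cfsg.Agent.H686.CharKit Cfsg.Agent.H732.VZ Cfsg.Agent.H604.OZ

namespace Cfsg.Agent.H245.OZ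

universe u

variable {G : Type u} [Group G] [Finite G] {χ : IrrCharacter G} {x : G}

/-- Burnside -/
theorem zero_of_coprime [IsSimpleGroup G] (h : One χ x) {t : G} (ht : t ≠ 1)
    (hc : Nat.Coprime (charDegree (χ : G → ℂ)) (Subgroup.centralizer ({t} : Set G)).index) :
    (χ : G → ℂ) t = 0 := by
  have hd := one_lt_deg h
  have hdeg := charDegree_irr χ
  obtain ⟨n, ρ, hρ, hχ⟩ := χ.2
  have h4 : charDegree (χ : G → ℂ) = Module.finrank ℂ (Fin n → ℂ) := by
    rw [← hχ, Representation.char_one] at hdeg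
    rw [← hχ]
    exact_mod_cast hdeg
  rw [h4] at hc hd
  rcases S0142.result ρ t hc with h1 | h1
  · rw [← hχ]; exact h1
  · exfalso
    obtain ⟨w, hw⟩ := (Values.norm_character_eq_iff ρ t).1 h1
    have hinv : ∀ a : G, ρ a⁻¹ * ρ a = 1 := fun a => by rw [← map_mul, inv_mul_cancel, map_one]
    have hinv' : ∀ a : G, ρ a * ρ a⁻¹ = 1 := fun a => by rw [← map_mul, mul_inv_cancel, map_one]
    -- the normal subgroup of the elements acting as scalars
    let N : Subgroup G :=
      { carrier := {g | ∃ c : ℂ, ρ g = c • (1 : (Fin n → ℂ) →ₗ[ℂ] (Fin n → ℂ))}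
        mul_mem' := by
          rintro a b ⟨c, hc⟩ ⟨d, hd⟩
          exact ⟨c * d, by rw [map_mul, hc, hd, smul_mul_smul_comm, one_mul]⟩
        one_mem' := ⟨1, by rw [map_one, one_smul]⟩
        inv_mem' := by
          rintro a ⟨c, hc⟩
          have h2 := hinv a
          rw [hc, mul_smul_comm, mul_one] at h2
          by_cases h0 : c = 0
          · refine ⟨0, ?_⟩
            rw [h0, zero_smul] at h2
            rw [zero_smul, ← mul_one (ρ a⁻¹), ← h2, mul_zero]
          · exact ⟨c⁻¹, by rw [← h2, smul_smul, inv_mul_cancel₀ h0, one_smul]⟩ }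
    have hN : N.Normal := by
      refine ⟨fun a ha b => ?_⟩
      obtain ⟨c, hc⟩ := ha
      refine ⟨c, ?_⟩
      rw [map_mul, map_mul, hc, mul_smul_comm, mul_one, smul_mul_assoc, hinv']
    have htop : N = ⊤ := by
      rcases hN.eq_bot_or_eq_top with h2 | h2
      · exact absurd (Subgroup.mem_bot.1 (h2 ▸ (show t ∈ N from ⟨w, hw⟩))) ht
      · exact h2
    obtain ⟨c, hc⟩ : x ∈ N := htop ▸ Subgroup.mem_top x
    have h2 := h.zero
    rw [← hχ, Representation.character, hc, map_smul, LinearMap.trace_one, smul_eq_mul] at h2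
    have h3 : c ≠ 0 := by
      rintro rfl
      have h4 := hinv' x
      rw [hc, zero_smul, zero_mul] at h4
      have h5 : (1 : (Fin n → ℂ) →ₗ[ℂ] (Fin n → ℂ)) ≠ 0 := by
        have : Nontrivial (Fin n → ℂ) := Module.nontrivial_of_finrank_pos (R := ℂ) (by omega)
        exact one_ne_zero
      exact h5 h4.symm
    have h4 : (Module.finrank ℂ (Fin n → ℂ) : ℂ) ≠ 0 := by
      have : Module.finrank ℂ (Fin n → ℂ) ≠ 0 := by omega
      exact_mod_cast this
    exact mul_ne_zero h3 h4 h2

/-- **The degree is a power of the prime `r`**: the order of a Sylow `r`-subgroup divides `|C(x)|`. -/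
theorem dvd_cent [IsSimpleGroup G] (h : One χ x) {r n a : ℕ} (hr : r.Prime) (hn : n ≠ 0) (h1 : r ^ n ∣ Nat.card G)
    (hd : charDegree (χ : G → ℂ) = r ^ a) : r ^ n ∣ cent x := by
  classical
  have hF : Fact r.Prime := ⟨hr⟩
  let P : Sylow r G := default
  have hPr : r ^ n ∣ Nat.card (P : Subgroup G) := P.pow_dvd_card_of_pow_dvd_card h1
  have hPnt : Nontrivial (P : Subgroup G) := by
    rw [← Finite.one_lt_card_iff_nontrivial]
    exact lt_of_lt_of_le (Nat.one_lt_pow hn hr.one_lt) (Nat.le_of_dvd Nat.card_pos hPr)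
  have hZ := P.2.center_nontrivial
  obtain ⟨z, hz⟩ := exists_ne (1 : Subgroup.center (P : Subgroup G))
  have hz1 : ((z : (P : Subgroup G)) : G) ≠ 1 := fun h => hz (Subtype.ext (Subtype.ext h))
  have hPz : (P : Subgroup G) ≤ Subgroup.centralizer ({((z : (P : Subgroup G)) : G)} : Set G) := by
    intro g hg
    rw [H672.OZ.mem_cent]
    exact congrArg Subtype.val (Subgroup.mem_center_iff.1 z.2 ⟨g, hg⟩)
  have hidx : ¬ r ∣ (Subgroup.centralizer ({((z : (P : Subgroup G)) : G)} : Set G)).index := fun hdv =>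
    P.not_dvd_index (hdv.trans (Subgroup.index_dvd_of_le hPz))
  have h0 := zero_of_coprime h hz1 (by
    rw [hd]
    exact Nat.Coprime.pow_left a ((Nat.Prime.coprime_iff_not_dvd hr).2 hidx))
  rw [H672.OZ.cent_eq_of_conj (h.uniq _ h0)]
  exact hPr.trans (Subgroup.card_dvd_of_le hPz)

end Cfsg.Agent.H245.OZ
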