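import Cfsg.Agent.H245.OZ.GThree
import Cfsg.Agent.H245.OZ.Burn
import Cfsg.Agent.H672.OZ.Sieve
import Cfsg.Agent.H849.OZ.Bad
import Cfsg.Agent.H730.OZ.Asm
import Cfsg.Agent.H541.PRegG2
import Cfsg.Agent.H638.G2Iso

/-!
# S4842: `G₂(3)` (helper245)

`|G| = 2⁶ 3⁶ 7 13`. The primes 7 and 13 are isolated; the sieve leaves the degrees 14, 27, 168, 378. The degree 27 is
a power of 3: `729 ∣ |C(x)|`, impossible. The others are divisible by 14: `x` has order 7, `|C(x)| = 7`, and the
elements `y` of order 8 (`|C(y)| = 8`, `y ~ y³`) give `14 ≤ 8`.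
-/

set_option autoImplicit false
set_option maxRecDepth 100000

open Cfsg Cfsg.Agent.Characters Cfsg.Agent.H732.VZ Cfsg.Agent.H604.OZ

namespace Cfsg.Agent.H245.OZ

universe u

/-- a generator of an isolated torus of prime order -/
theorem exists_gen {G : Type u} [Group G] [Finite G] {m : ℕ} (h : H541.PRegTorus.Iso G m 3 6)
    (h3 : 3 < m) : ∃ z : G, orderOf z = m ∧ Nat.card (Subgroup.centralizer ({z} : Set G)) ≤ m := by
  obtain ⟨T, hc, hT, hC, -⟩ := h
  obtain ⟨z, hz, ho⟩ := H541.PRegTorus.exists_orderOf hc (hT.symm ▸ dvd_refl m)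
  have ho' : orderOf z = m := ho.trans hT
  refine ⟨z, ho', ?_⟩
  rw [hC z hz, hT]
  intro h1
  have h2 := orderOf_dvd_of_pow_eq_one h1
  rw [ho'] at h2
  have := Nat.le_of_dvd (by norm_num) h2
  omega

/-- the row from the class facts -/
theorem row_G2_three_of_facts {G : Type u} [Group G] [Finite G] [IsSimpleGroup G] (hN : Nat.card G = 4245696)
    {z z' y : G} (hz : orderOf z = 7) (hCz : Nat.card (Subgroup.centralizer ({z} : Set G)) ≤ 7)
    (hz' : orderOf z' = 13) (hCz' : Nat.card (Subgroup.centralizer ({z'} : Set G)) ≤ 13)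
    (hy : orderOf y = 8) (hCy : Nat.card (Subgroup.centralizer ({y} : Set G)) ≤ 8) (hy3 : IsConj y (y ^ 3)) :
    H730.OZ.Row G := by
  refine row_of fun χ x h => ?_
  have h4 : 4 ≤ cent x := four_le_cent h (by rw [hN]; norm_num) (by rw [hN]; norm_num)
  have hiso : ∀ r ∈ [7, 13], charDegree (χ : G → ℂ) % r = 0 ∨
      charDegree (χ : G → ℂ) % r = 1 ∨ charDegree (χ : G → ℂ) % r = r - 1 := by
    intro r hr
    simp only [List.mem_cons, List.not_mem_nil, or_false] at hr
    rcases hr with rfl | rfl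
    · exact H672.OZ.iso_mod_of h (by norm_num) (by norm_num) (by rw [hN]; norm_num) (by rw [hN]; norm_num)
        hz hCz h4
    · exact H672.OZ.iso_mod_of h (by norm_num) (by norm_num) (by rw [hN]; norm_num) (by rw [hN]; norm_num)
        hz' hCz' h4
  have hm := H672.OZ.mem_of_sieve4 h hN (l := [(2,6),(3,6),(7,1),(13,1)]) (by decide +kernel)
    (by
      intro x hx
      simp only [List.mem_cons, List.not_mem_nil, or_false] at hx
      rcases hx with rfl | rfl | rfl | rfl <;> norm_num)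
    (by decide +kernel) h4 hiso (D := [14, 27, 168, 378]) (by decide +kernel)
  have key : 14 ∣ charDegree (χ : G → ℂ) → False := by
    intro h14
    obtain ⟨hx7, hc7, -⟩ := H672.OZ.full h (r := 7) (n := 1) (by norm_num) (by norm_num) (by rw [hN]; norm_num)
      (by rw [hN]; norm_num) (by rw [pow_one]; exact dvd_trans (by norm_num) h14)
    have h2 : 2 ∣ charDegree (χ : G → ℂ) := dvd_trans (by norm_num) h14
    have hxy : ¬ IsConj x y := by
      intro hxy
      have h6 := orderOf_eq_of_conj hxy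
      rw [hx7, hy] at h6
      omega
    have hcop : ∀ m : ℕ, m.Coprime (Nat.card G) → ¬ 2 ∣ m := by
      intro m hm h6
      have h7 : 2 ∣ Nat.card G := by rw [hN]; norm_num
      exact absurd (Nat.dvd_gcd h6 h7) (by rw [hm]; norm_num)
    have hmod : ∀ m : ℕ, y ^ m = y ^ (m % 8) := fun m => by
      rw [← hy, pow_mod_orderOf]
    have h57 : IsConj (y ^ 7) (y ^ 5) := by
      have h8 := H849.OZ.isConj_pow hy3 5
      rw [← pow_mul, hmod (3 * 5)] at h8
      exact h8.symm
    have h1or : ∀ m : ℕ, m.Coprime (Nat.card G) → IsConj (y ^ m) y ∨ IsConj (y ^ m) (y ^ 5) := by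
      intro m hm
      have h6 := hcop m hm
      have h7 : m % 8 = 1 ∨ m % 8 = 3 ∨ m % 8 = 5 ∨ m % 8 = 7 := by omega
      rw [hmod m]
      rcases h7 with h7 | h7 | h7 | h7 <;> rw [h7]
      · left; rw [pow_one]
      · left; exact hy3.symm
      · right; exact IsConj.refl _
      · right; exact h57
    have hcx : (7 : ℝ) ≤ cent x := by
      have : 7 ≤ cent x := by rw [hc7]; norm_num
      exact_mod_cast this
    have hcy : (cent y : ℝ) ≤ 8 := by exact_mod_cast hCy
    by_cases hyy : IsConj y (y ^ 5)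
    · have h6 := H849.OZ.one_orb h (T := {1}) (y := y) (H849.OZ.galOrb_one fun m hm =>
        (h1or m hm).elim id fun h7 => h7.trans hyy.symm) (r := 2) (by norm_num) h2 ⟨3, by rw [hy]; norm_num⟩
        hxy (b := 4) (by norm_num) (by norm_num)
      rw [Finset.card_singleton] at h6
      norm_num at h6
      linarith
    · have h6 := H849.OZ.one_orb h (T := {1, 5}) (y := y) (H849.OZ.galOrb_two (by rw [hN]; norm_num) hyy h1or)
        (r := 2) (by norm_num) h2 ⟨3, by rw [hy]; norm_num⟩ hxy (b := 2) (by norm_num) (by norm_num)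
      rw [show (({1, 5} : Finset ℕ).card) = 2 from rfl] at h6
      norm_num at h6
      linarith
  simp only [List.mem_cons, List.not_mem_nil, or_false] at hm
  rcases hm with hd | hd | hd | hd
  · exact key (by rw [hd])
  · have h6 := dvd_cent h (r := 3) (n := 6) (a := 3) (by norm_num) (by norm_num) (by rw [hN]; norm_num)
      (by rw [hd]; norm_num)
    have h7 := H672.OZ.cent_le_of h hN (r := 2) (n := 6) (by norm_num) hd (by norm_num) (by norm_num) (by norm_num)
    have h8 := Nat.le_of_dvd (by omega) h6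
    norm_num at h7 h8
    omega
  · exact key (by rw [hd]; norm_num)
  · exact key (by rw [hd]; norm_num)

theorem card_g2three : Nat.card (Cfsg.Lie.G2 (ZMod 3)) = 4245696 := by
  have h := H638.G2Iso.card_G2 (F := ZMod 3)
  rw [Nat.card_zmod] at h
  rw [h]
  norm_num

theorem card_chev_three : Nat.card ↥(Cfsg.Lie.chevG2.group (ZMod 3)) = 4245696 := by
  have h := Cfsg.Agent.S1059.result (F := ZMod 3) (q := 3) (ZMod.card 3)
  rw [h]
  norm_num

theorem iso13 : H541.PRegTorus.Iso ↥(Cfsg.Lie.chevG2.group (ZMod 3)) 13 3 6 :=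
  H541.PRegG2.tor3 (F := ZMod 3) (q := 3) (ZMod.card 3) le_rfl (M := 326592)
    (card_chev_three.trans (by norm_num)) (by norm_num)

theorem iso7 : H541.PRegTorus.Iso ↥(Cfsg.Lie.chevG2.group (ZMod 3)) 7 3 6 :=
  H541.PRegG2.tor6 (F := ZMod 3) (q := 3) (ZMod.card 3) le_rfl (M := 606528)
    (card_chev_three.trans (by norm_num)) (by norm_num)

theorem iso13' : H541.PRegTorus.Iso (Cfsg.Lie.G2 (ZMod 3)) 13 3 6 := by
  obtain ⟨f⟩ := H638.G2Iso.equiv (F := ZMod 3)
  exact iso13.congr f.symm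

theorem iso7' : H541.PRegTorus.Iso (Cfsg.Lie.G2 (ZMod 3)) 7 3 6 := by
  obtain ⟨f⟩ := H638.G2Iso.equiv (F := ZMod 3)
  exact iso7.congr f.symm

theorem finite_g2three : Finite (Cfsg.Lie.G2 (ZMod 3)) :=
  Nat.finite_of_card_ne_zero (by rw [card_g2three]; norm_num)

theorem row_lie (hs : IsSimpleGroup (Cfsg.Lie.G2 (ZMod 3))) : H730.OZ.Row (Cfsg.Lie.G2 (ZMod 3)) := by
  have hfin := finite_g2three
  obtain ⟨z, hz, hCz⟩ := exists_gen iso7' (by norm_num)
  obtain ⟨z', hz', hCz'⟩ := exists_gen iso13' (by norm_num)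
  exact row_G2_three_of_facts card_g2three hz hCz hz' hCz' GThree.orderOf_y GThree.cent_y GThree.conj_y

/-- **`G₂(3)`.** -/
theorem row_G2_three {S : Type u} [Group S] [Finite S] (hs : IsSimpleGroup S) {F : Type} [Field F] [Fintype F]
    (hF : Fintype.card F = 3) (e : S ≃* Cfsg.Lie.chevG2.group F) : H730.OZ.Row S := by
  obtain ⟨f2⟩ := H638.G2Iso.equiv (F := ZMod 3)
  have g : F ≃+* ZMod 3 := FiniteField.ringEquivOfCardEq (K := F) (K' := ZMod 3) (by rw [hF, ZMod.card])
  have f : S ≃* Cfsg.Lie.G2 (ZMod 3) :=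
    (e.trans (ChevStructure.FieldMap.groupEquivOfRingEquiv Cfsg.Lie.chevG2 g)).trans f2.symm
  exact H730.OZ.Row.congr f (row_lie (MulEquiv.isSimpleGroup f.symm))

end Cfsg.Agent.H245.OZ
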