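import Cfsg.Agent.H245.OZ.OctCent

/-!
# An element of order 8 of `G₂(3)` (helper245, for S4842)
-/

set_option autoImplicit false

namespace Cfsg.Agent.H245.OZ.GThree

open Cfsg.Lie Cfsg.Agent.H161.Oct Matrix Cfsg.Agent.H245.OZ.Oc

instance factThreeG : Fact (Nat.Prime 3) := ⟨Nat.prime_three⟩

/-- equality of vectors -/
theorem veq {u v : Fin 8 → ZMod 3} (h0 : u 0 = v 0) (h1 : u 1 = v 1) (h2 : u 2 = v 2) (h3 : u 3 = v 3)
    (h4 : u 4 = v 4) (h5 : u 5 = v 5) (h6 : u 6 = v 6) (h7 : u 7 = v 7) : u = v := by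
  funext i
  fin_cases i
  · exact h0
  · exact h1
  · exact h2
  · exact h3
  · exact h4
  · exact h5
  · exact h6
  · exact h7

/-- order 8 -/
def yM : Matrix (Fin 8) (Fin 8) (ZMod 3) :=
  !![1, 0, 0, 0, 0, 0, 0, 0;
     0, 0, 1, 0, 0, 0, 0, 0;
     0, 1, 1, 0, 0, 0, 0, 0;
     0, 0, 0, 2, 0, 0, 0, 0;
     0, 0, 0, 0, 2, 1, 0, 0;
     0, 0, 0, 0, 1, 0, 0, 0;
     0, 0, 0, 0, 0, 0, 2, 0;
     0, 0, 0, 0, 0, 0, 0, 1]

/-- the inverse -/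
def yN : Matrix (Fin 8) (Fin 8) (ZMod 3) :=
  !![1, 0, 0, 0, 0, 0, 0, 0;
     0, 2, 1, 0, 0, 0, 0, 0;
     0, 1, 0, 0, 0, 0, 0, 0;
     0, 0, 0, 2, 0, 0, 0, 0;
     0, 0, 0, 0, 0, 1, 0, 0;
     0, 0, 0, 0, 1, 1, 0, 0;
     0, 0, 0, 0, 0, 0, 2, 0;
     0, 0, 0, 0, 0, 0, 0, 1]

/-- `g y g⁻¹ = y³` -/
def gM : Matrix (Fin 8) (Fin 8) (ZMod 3) :=
  !![1, 0, 0, 0, 0, 0, 0, 0;
     0, 0, 1, 0, 0, 0, 0, 0;
     0, 2, 0, 0, 0, 0, 0, 0;
     0, 0, 0, 1, 0, 0, 0, 0;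
     0, 0, 0, 0, 0, 1, 0, 0;
     0, 0, 0, 0, 2, 0, 0, 0;
     0, 0, 0, 0, 0, 0, 1, 0;
     0, 0, 0, 0, 0, 0, 0, 1]

/-- the inverse -/
def gN : Matrix (Fin 8) (Fin 8) (ZMod 3) :=
  !![1, 0, 0, 0, 0, 0, 0, 0;
     0, 0, 2, 0, 0, 0, 0, 0;
     0, 1, 0, 0, 0, 0, 0, 0;
     0, 0, 0, 1, 0, 0, 0, 0;
     0, 0, 0, 0, 0, 2, 0, 0;
     0, 0, 0, 0, 1, 0, 0, 0;
     0, 0, 0, 0, 0, 0, 1, 0;
     0, 0, 0, 0, 0, 0, 0, 1]

theorem y1 : yM * yN = 1 := by decide +kernel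
theorem y2 : yN * yM = 1 := by decide +kernel
theorem g1 : gM * gN = 1 := by decide +kernel
theorem g2 : gN * gM = 1 := by decide +kernel

theorem yz : ∀ i j : Fin 8, yM *ᵥ zornMul (Pi.single i 1) (Pi.single j 1) =
    zornMul (yM *ᵥ Pi.single i 1) (yM *ᵥ Pi.single j 1) := by decide +kernel
theorem gz : ∀ i j : Fin 8, gM *ᵥ zornMul (Pi.single i 1) (Pi.single j 1) =
    zornMul (gM *ᵥ Pi.single i 1) (gM *ᵥ Pi.single j 1) := by decide +kernel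

/-- order 8 -/
def y : Cfsg.Lie.G2 (ZMod 3) := elt yM yN y1 y2 yz
/-- the conjugating element -/
def g : Cfsg.Lie.G2 (ZMod 3) := elt gM gN g1 g2 gz

theorem y8 : yM ^ 8 = 1 := by decide +kernel
theorem y4 : yM ^ 4 ≠ 1 := by decide +kernel
theorem gy : gM * yM = yM ^ 3 * gM := by decide +kernel

theorem orderOf_y : orderOf y = 8 :=
  orderOf_eq_prime_pow (p := 2) (n := 2)
    (fun h => y4 (by have := congrArg Oc.mt h; rwa [mt_pow, mt_one] at this))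
    (mt_inj (by rw [mt_pow, mt_one]; exact y8))

theorem conj_y : IsConj y (y ^ 3) := by
  refine isConj_iff.2 ⟨g, ?_⟩
  rw [mul_inv_eq_iff_eq_mul]
  apply mt_inj
  rw [mt_mul, mt_mul, mt_pow]
  exact gy

/-- the first projection -/
def d1 : Fin 8 → ZMod 3 := ![1, 0, 0, 1, 1, 1, 1, 1]
/-- the second projection -/
def d2 : Fin 8 → ZMod 3 := ![1, 1, 1, 1, 0, 0, 1, 1]

theorem p1 : (yM ^ 3 + yM ^ 4 - yM ^ 5) = diagonal d1 := by decide +kernel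
theorem p2 : (yM ^ 4 + yM ^ 5 - yM ^ 3) = diagonal d2 := by decide +kernel

theorem hP1 (h : Cfsg.Lie.G2 (ZMod 3)) (hh : h * y = y * h) : Commute (Oc.mt h) (diagonal d1) := by
  rw [← p1]
  have hc : Commute (Oc.mt h) yM := mt_comm hh
  exact ((hc.pow_right 3).add_right (hc.pow_right 4)).sub_right (hc.pow_right 5)

theorem hP2 (h : Cfsg.Lie.G2 (ZMod 3)) (hh : h * y = y * h) : Commute (Oc.mt h) (diagonal d2) := by
  rw [← p2]
  have hc : Commute (Oc.mt h) yM := mt_comm hh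
  exact ((hc.pow_right 4).add_right (hc.pow_right 5)).sub_right (hc.pow_right 3)

theorem mul_zero_of (d : Fin 8 → ZMod 3) (h : Cfsg.Lie.G2 (ZMod 3)) (hc : Commute (Oc.mt h) (diagonal d))
    (v : V (ZMod 3)) (hv : diagonal d *ᵥ v = 0) (i : Fin 8) : d i * (Oc.mt h *ᵥ v) i = 0 := by
  have h0 : (diagonal d : Matrix (Fin 8) (Fin 8) (ZMod 3)) *ᵥ (Oc.mt h *ᵥ v) = 0 := by
    rw [Matrix.mulVec_mulVec, ← hc.eq, ← Matrix.mulVec_mulVec, hv, Matrix.mulVec_zero]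
  have := congrFun h0 i
  rwa [Matrix.mulVec_diagonal] at this

theorem d1v : diagonal d1 *ᵥ (Pi.single 1 1 : V (ZMod 3)) = 0 := by decide +kernel
theorem d2v : diagonal d2 *ᵥ (Pi.single 4 1 : V (ZMod 3)) = 0 := by decide +kernel

theorem im1 (h : Cfsg.Lie.G2 (ZMod 3)) (hh : h * y = y * h) :
    ∃ p : {p : ZMod 3 × ZMod 3 // p ≠ 0}, (![0, p.1.1, p.1.2, 0, 0, 0, 0, 0] : V (ZMod 3)) =
      Oc.mt h *ᵥ (Pi.single 1 1 : V (ZMod 3)) := by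
  obtain ⟨w, hw⟩ : ∃ w, w = Oc.mt h *ᵥ (Pi.single 1 1 : V (ZMod 3)) := ⟨_, rfl⟩
  have hz : ∀ i, d1 i * w i = 0 := fun i => by
    rw [hw]
    exact mul_zero_of d1 h (hP1 h hh) _ d1v i
  have z0 : w 0 = 0 := (one_mul _).symm.trans (hz 0)
  have z3 : w 3 = 0 := (one_mul _).symm.trans (hz 3)
  have z4 : w 4 = 0 := (one_mul _).symm.trans (hz 4)
  have z5 : w 5 = 0 := (one_mul _).symm.trans (hz 5)
  have z6 : w 6 = 0 := (one_mul _).symm.trans (hz 6)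
  have z7 : w 7 = 0 := (one_mul _).symm.trans (hz 7)
  refine ⟨⟨(w 1, w 2), fun h2 => ?_⟩, ?_⟩
  · have h3 : w = 0 := veq z0 (congrArg Prod.fst h2) (congrArg Prod.snd h2) z3 z4 z5 z6 z7
    have h4 : (Oc.mt h⁻¹) *ᵥ w = Pi.single 1 1 := by
      rw [hw, Matrix.mulVec_mulVec, ← mt_mul, inv_mul_cancel, mt_one, Matrix.one_mulVec]
    rw [h3, Matrix.mulVec_zero] at h4
    exact absurd (congrFun h4 1) (by decide)
  · exact (veq z0.symm rfl rfl z3.symm z4.symm z5.symm z6.symm z7.symm : (![0, w 1, w 2, 0, 0, 0, 0, 0] : V (ZMod 3)) = w).trans hw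

theorem e12 : yM *ᵥ (Pi.single 1 1 : V (ZMod 3)) = Pi.single 2 1 := by decide +kernel
theorem e45 : (yM - 2) *ᵥ (Pi.single 4 1 : V (ZMod 3)) = Pi.single 5 1 := by decide +kernel
theorem m6 : zornMul (Pi.single 1 1 : V (ZMod 3)) (Pi.single 2 1) = Pi.single 6 1 := by decide +kernel
theorem m3 : zornMul (Pi.single 5 1 : V (ZMod 3)) (Pi.single 4 1) = Pi.single 3 1 := by decide +kernel
theorem m0 : zornMul (Pi.single 1 1 : V (ZMod 3)) (Pi.single 4 1) = Pi.single 0 1 := by decide +kernel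
theorem m7 : zornMul (Pi.single 4 1 : V (ZMod 3)) (Pi.single 1 1) = Pi.single 7 1 := by decide +kernel

theorem blw1 (w : V (ZMod 3)) : bl w (Pi.single 1 1) = - w 4 := by
  simp [bl]

theorem blw2 (w : V (ZMod 3)) : bl w (Pi.single 2 1) = - w 5 := by
  simp [bl]

theorem f2_of (h : Cfsg.Lie.G2 (ZMod 3)) (hh : h * y = y * h)
    (f1 : Oc.mt h *ᵥ (Pi.single 1 1 : V (ZMod 3)) = Pi.single 1 1) :
    Oc.mt h *ᵥ (Pi.single 2 1 : V (ZMod 3)) = Pi.single 2 1 := by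
  have hc : Commute (Oc.mt h) yM := mt_comm hh
  rw [← e12, Matrix.mulVec_mulVec, hc.eq, ← Matrix.mulVec_mulVec, f1]

theorem f4_of (h : Cfsg.Lie.G2 (ZMod 3)) (hh : h * y = y * h)
    (f1 : Oc.mt h *ᵥ (Pi.single 1 1 : V (ZMod 3)) = Pi.single 1 1)
    (f2 : Oc.mt h *ᵥ (Pi.single 2 1 : V (ZMod 3)) = Pi.single 2 1) :
    Oc.mt h *ᵥ (Pi.single 4 1 : V (ZMod 3)) = Pi.single 4 1 := by
  obtain ⟨w, hw⟩ : ∃ w, w = Oc.mt h *ᵥ (Pi.single 4 1 : V (ZMod 3)) := ⟨_, rfl⟩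
  have hz : ∀ i, d2 i * w i = 0 := fun i => by
    rw [hw]
    exact mul_zero_of d2 h (hP2 h hh) _ d2v i
  have z0 : w 0 = 0 := (one_mul _).symm.trans (hz 0)
  have z1 : w 1 = 0 := (one_mul _).symm.trans (hz 1)
  have z2 : w 2 = 0 := (one_mul _).symm.trans (hz 2)
  have z3 : w 3 = 0 := (one_mul _).symm.trans (hz 3)
  have z6 : w 6 = 0 := (one_mul _).symm.trans (hz 6)
  have z7 : w 7 = 0 := (one_mul _).symm.trans (hz 7)
  have b1 := map_bl h (Pi.single 4 1 : V (ZMod 3)) (Pi.single 1 1)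
  have b2 := map_bl h (Pi.single 4 1 : V (ZMod 3)) (Pi.single 2 1)
  rw [← hw, f1, blw1 w, blw1 (Pi.single 4 1), neg_inj] at b1
  rw [← hw, f2, blw2 w, blw2 (Pi.single 4 1), neg_inj] at b2
  exact hw.symm.trans (veq z0 z1 z2 z3 b1 b2 z6 z7)

theorem eq_one_of_im (h : Cfsg.Lie.G2 (ZMod 3)) (hh : h * y = y * h)
    (f1 : Oc.mt h *ᵥ (Pi.single 1 1 : V (ZMod 3)) = Pi.single 1 1) : h = 1 := by
  have hc : Commute (Oc.mt h) yM := mt_comm hh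
  have f2 := f2_of h hh f1
  have f4 := f4_of h hh f1 f2
  have f5 : Oc.mt h *ᵥ (Pi.single 5 1 : V (ZMod 3)) = Pi.single 5 1 := by
    have hc' : Commute (Oc.mt h) (yM - 2) := hc.sub_right (Commute.ofNat_right _ 2)
    rw [← e45, Matrix.mulVec_mulVec, hc'.eq, ← Matrix.mulVec_mulVec, f4]
  have f6 := fix_mul f1 f2
  have f3 := fix_mul f5 f4
  have f0 := fix_mul f1 f4
  have f7 := fix_mul f4 f1
  rw [m6] at f6
  rw [m3] at f3
  rw [m0] at f0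
  rw [m7] at f7
  apply eq_one_of_single
  intro j
  fin_cases j
  · exact f0
  · exact f1
  · exact f2
  · exact f3
  · exact f4
  · exact f5
  · exact f6
  · exact f7

theorem cent_y : Nat.card (Subgroup.centralizer ({y} : Set (Cfsg.Lie.G2 (ZMod 3)))) ≤ 8 :=
  card_cent_le (P := {p : ZMod 3 × ZMod 3 // p ≠ 0}) (Pi.single 1 1)
    (fun p => ![0, p.1.1, p.1.2, 0, 0, 0, 0, 0]) (fun h hh => im1 h hh) (fun h hh he => eq_one_of_im h hh he)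
    (by decide +kernel)

end Cfsg.Agent.H245.OZ.GThree
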